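import Mathlib.AlgebraicGeometry.IdealSheaf.Subscheme
import Mathlib.AlgebraicGeometry.Morphisms.ClosedImmersion
import Mathlib.RingTheory.Localization.Away.Basic
import Mathlib.RingTheory.LocalProperties.Basic

/-!
The closed subscheme cut out by a condition on affine points which has universal ideals.
-/

set_option autoImplicit false
set_option linter.style.haveILetI false
set_option backward.isDefEq.respectTransparency false

universe u

open CategoryTheory AlgebraicGeometry

namespace Groth.Agent.LGGlobal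

variable {X : Scheme.{u}} (Q : ∀ (A : Type u) [CommRing A], (Spec (CommRingCat.of A) ⟶ X) → Prop)

/-- The universal ideal of the condition at a point. -/
def HasQ {A : Type u} [CommRing A] (a : Spec (CommRingCat.of A) ⟶ X) (I : Ideal A) : Prop :=
  ∀ (C : Type u) [CommRing C] (φ : A →+* C),
    Q C (Spec.map (CommRingCat.ofHom φ) ≫ a) ↔ I ≤ RingHom.ker φ

variable {Q}

theorem HasQ.unique {A : Type u} [CommRing A] {a : Spec (CommRingCat.of A) ⟶ X} {I I' : Ideal A}
    (h : HasQ Q a I) (h' : HasQ Q a I') : I = I' := by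
  apply le_antisymm
  · exact ((h (A ⧸ I') _).mp ((h' (A ⧸ I') (Ideal.Quotient.mk I')).mpr (by rw [Ideal.mk_ker]))).trans_eq
      Ideal.mk_ker
  · exact ((h' (A ⧸ I) _).mp ((h (A ⧸ I) (Ideal.Quotient.mk I)).mpr (by rw [Ideal.mk_ker]))).trans_eq
      Ideal.mk_ker

theorem HasQ.map {A A' : Type u} [CommRing A] [CommRing A'] {a : Spec (CommRingCat.of A) ⟶ X}
    {I : Ideal A} (h : HasQ Q a I) (ψ : A →+* A') :
    HasQ Q (Spec.map (CommRingCat.ofHom ψ) ≫ a) (I.map ψ) := by
  intro C _ φ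
  rw [← Category.assoc, ← Spec.map_comp, ← CommRingCat.ofHom_comp, h C (φ.comp ψ),
    Ideal.map_le_iff_le_comap, RingHom.comap_ker]

variable (hI : ∀ (A : Type u) [CommRing A] (a : Spec (CommRingCat.of A) ⟶ X), ∃ I : Ideal A, HasQ Q a I)

include hI in
theorem q_comp {A C : Type u} [CommRing A] [CommRing C] {a : Spec (CommRingCat.of A) ⟶ X}
    (ha : Q A a) (φ : A →+* C) : Q C (Spec.map (CommRingCat.ofHom φ) ≫ a) := by
  obtain ⟨I, hI⟩ := hI A a
  refine (hI C φ).2 ?_
  have h0 := (hI A (RingHom.id A)).1 (by rwa [CommRingCat.ofHom_id, Spec.map_id, Category.id_comp])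
  intro x hx
  have := h0 hx
  rw [RingHom.mem_ker, RingHom.id_apply] at this
  rw [RingHom.mem_ker, this, map_zero]

include hI in
theorem q_of_span {A : Type u} [CommRing A] (a : Spec (CommRingCat.of A) ⟶ X) (s : Set A)
    (hs : Ideal.span s = ⊤)
    (h : ∀ r ∈ s, Q _ (Spec.map (CommRingCat.ofHom (algebraMap A (Localization.Away r))) ≫ a)) :
    Q A a := by
  obtain ⟨I, hI⟩ := hI A a
  have h0 := (hI A (RingHom.id A)).2 (fun x hx => by
    rw [RingHom.mem_ker, RingHom.id_apply]
    refine Module.eq_zero_of_isLocalized_span s hs (fun r => Localization.Away (r : A))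
      (fun r => Algebra.linearMap A (Localization.Away (r : A))) x fun r => ?_
    show algebraMap A (Localization.Away (r : A)) x = 0
    exact RingHom.mem_ker.1 ((hI _ _).1 (h r r.2) hx))
  rwa [CommRingCat.ofHom_id, Spec.map_id, Category.id_comp] at h0

include hI in
/-- The closed subscheme cut out by the condition. -/
theorem exists_closedLocus :
    ∃ (Z : Scheme.{u}) (ι : Z ⟶ X), IsClosedImmersion ι ∧
      ∀ (A : Type u) [CommRing A] (a : Spec (CommRingCat.of A) ⟶ X), (∃ h, h ≫ ι = a) ↔ Q A a := by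
  choose I hI' using fun U : X.affineOpens => hI Γ(X, U) U.2.fromSpec
  let 𝓘 : X.IdealSheafData :=
    { ideal := I
      map_ideal_basicOpen := fun U f => by
        refine HasQ.unique ?_ (hI' (X.affineBasicOpen f))
        have := HasQ.map (hI' U) (X.presheaf.map (homOfLE <| X.basicOpen_le f).op).hom
        rwa [CommRingCat.ofHom_hom, IsAffineOpen.map_fromSpec U.2 (X.affineBasicOpen f).2] at this }
  refine ⟨𝓘.subscheme, 𝓘.subschemeι, inferInstance, fun A _ a => ?_⟩
  constructor
  · rintro ⟨l, hl⟩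
    refine q_of_span hI a
      {r | Q _ (Spec.map (CommRingCat.ofHom (algebraMap A (Localization.Away r))) ≫ a)} ?_ fun r hr => hr
    rw [← PrimeSpectrum.iSup_basicOpen_eq_top_iff']
    refine eq_top_iff.2 fun p _ => ?_
    obtain ⟨U, hU, hpU, -⟩ := exists_isAffineOpen_mem_and_subset (x := a p) (U := ⊤) trivial
    obtain ⟨_, ⟨_, ⟨r, rfl⟩, rfl⟩, hpr, hrU⟩ :=
      (PrimeSpectrum.isBasis_basic_opens (R := A)).exists_subset_of_mem_open (a := p) (u := ((a ⁻¹ᵁ U).1 : Set (PrimeSpectrum A))) hpU (a ⁻¹ᵁ U).2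
    refine TopologicalSpace.Opens.mem_iSup.2 ⟨r, TopologicalSpace.Opens.mem_iSup.2 ⟨?_, hpr⟩⟩
    let b := Spec.map (CommRingCat.ofHom (algebraMap A (Localization.Away r)))
    have hb : Set.range (b ≫ a) ⊆ Set.range hU.fromSpec := by
      rintro _ ⟨q, rfl⟩
      rw [IsAffineOpen.range_fromSpec]
      refine hrU ?_
      have : b q ∈ Set.range (PrimeSpectrum.comap (algebraMap A (Localization.Away r))) := ⟨q, rfl⟩
      rw [PrimeSpectrum.localization_away_comap_range (Localization.Away r) r] at this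
      exact this
    obtain ⟨ψ, hψ⟩ : ∃ ψ, Spec.map ψ ≫ hU.fromSpec = b ≫ a :=
      ⟨Spec.preimage (IsOpenImmersion.lift hU.fromSpec (b ≫ a) hb), by
        rw [Spec.map_preimage, IsOpenImmersion.lift_fac]⟩
    show Q _ (b ≫ a)
    rw [← hψ, ← CommRingCat.ofHom_hom ψ]
    refine (hI' ⟨U, hU⟩ _ ψ.hom).2 fun x hx => RingHom.mem_ker.2 ?_
    have hx0 : (𝓘.subschemeι.app U).hom x = 0 := by
      rw [← RingHom.mem_ker, ← Scheme.Hom.ker_apply (f := 𝓘.subschemeι) ⟨U, hU⟩, Scheme.IdealSheafData.ker_subschemeι]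
      exact hx
    have h1 : ((b ≫ l ≫ 𝓘.subschemeι).app U).hom x = 0 := by
      rw [Scheme.Hom.comp_app, Scheme.Hom.comp_app]
      simp [hx0]
    rw [hl, ← hψ] at h1
    let A' := CommRingCat.of (Localization.Away r)
    have hle : (⊤ : (Spec A').Opens) ≤ (Spec.map ψ ≫ hU.fromSpec) ⁻¹ᵁ U := by
      rw [Scheme.Hom.comp_preimage, hU.fromSpec_preimage_self]; exact le_top
    have e1 : hU.fromSpec.appLE U ⊤ (by rw [hU.fromSpec_preimage_self]) = (Scheme.ΓSpecIso Γ(X, U)).inv := by
      rw [Scheme.Hom.appLE, IsAffineOpen.fromSpec_app_self]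
      simp [← Functor.map_comp]
    have e2 : (Spec.map ψ ≫ hU.fromSpec).appLE U ⊤ hle = ψ ≫ (Scheme.ΓSpecIso A').inv := by
      rw [← Scheme.Hom.appLE_comp_appLE (Spec.map ψ) hU.fromSpec U ⊤ ⊤ (by rw [hU.fromSpec_preimage_self]) (le_of_eq rfl), e1,
        Scheme.ΓSpecIso_inv_naturality]
      congr 1
    have h2 : ((Spec.map ψ ≫ hU.fromSpec).appLE U ⊤ hle).hom x = 0 := by
      rw [Scheme.Hom.appLE, CommRingCat.hom_comp, RingHom.comp_apply, h1, map_zero]
    rw [e2] at h2
    have h4 := congrArg (Scheme.ΓSpecIso A').hom h2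
    simp only [CommRingCat.hom_comp, RingHom.comp_apply, map_zero] at h4
    rwa [Iso.inv_hom_id_apply] at h4
  · intro hg
    have hle : 𝓘.subschemeι.ker ≤ a.ker := by
      rw [Scheme.IdealSheafData.ker_subschemeι]
      refine Scheme.IdealSheafData.le_ofIdeals_iff.mpr fun U x hx => RingHom.mem_ker.mpr ?_
      refine (Spec (CommRingCat.of A)).IsSheaf.section_ext fun t ht => ?_
      obtain ⟨W, hW, htW, hWle⟩ := exists_isAffineOpen_mem_and_subset (show t ∈ a ⁻¹ᵁ U.1 from ht)
      refine ⟨W, hWle, htW, ?_⟩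
      have h2 := ((hI' U) Γ(Spec (CommRingCat.of A), W) (a.appLE U W hWle).hom).mp (by
        rw [CommRingCat.ofHom_hom, IsAffineOpen.SpecMap_appLE_fromSpec a U.2 hW hWle,
          ← Spec.map_preimage hW.fromSpec, ← CommRingCat.ofHom_hom (Spec.preimage hW.fromSpec)]
        exact q_comp hI hg _)
      rw [map_zero, ← RingHom.mem_ker.mp (h2 hx)]
      rfl
    exact ⟨IsClosedImmersion.lift 𝓘.subschemeι a hle, IsClosedImmersion.lift_fac _ _ _⟩

end Groth.Agent.LGGlobal
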