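import Groth.Agent.LGGlobal.Value
import Groth.Agent.Synt29.LGComponents

/-!
Linked Grassmannians over a domain: dominance of components, irreducibility for a nonzero scalar.
-/

set_option autoImplicit false
set_option backward.isDefEq.respectTransparency false
set_option backward.isDefEq.respectTransparency.types false
set_option linter.style.haveILetI false

universe u

open TensorProduct CategoryTheory AlgebraicGeometry W4c1limliniiii

namespace Groth.Agent.LGGlobal

open Synt29.LG Synt29.GrassGraph Synt29.RepOpen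
open Module (Grassmannian)

section Span

variable {R : Type u} [CommRing R] {d : ℕ} {A B : Type u} [CommRing A] [Algebra R A] [CommRing B] [Algebra R B]

theorem span_ι_span (φ : A →ₐ[R] B) (s : Set (A ⊗[R] (Fin d → R))) :
    Submodule.span B (ι φ '' (Submodule.span A s : Set (A ⊗[R] (Fin d → R)))) = Submodule.span B (ι φ '' s) := by
  refine le_antisymm (Submodule.span_le.2 ?_) (Submodule.span_mono (Set.image_mono Submodule.subset_span))
  rintro _ ⟨x, hx, rfl⟩
  induction hx using Submodule.span_induction with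
  | mem z hz => exact Submodule.subset_span ⟨z, hz, rfl⟩
  | zero => simp
  | add a b _ _ ha hb => rw [map_add]; exact add_mem ha hb
  | smul c a _ ha => rw [ι_smul]; exact Submodule.smul_mem _ _ ha

end Span

theorem exists_vectors {L : Type u} [Field L] {M : Type u} [AddCommGroup M] [Module L M] [Module.Finite L M]
    (W : Submodule L M) {r : ℕ} (h : Module.finrank L W = r) :
    ∃ w : Fin r → M, LinearIndependent L w ∧ Submodule.span L (Set.range w) = W := by
  let b := Module.finBasisOfFinrankEq L W h
  refine ⟨W.subtype ∘ b, b.linearIndependent.map' W.subtype (Submodule.ker_subtype _), ?_⟩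
  rw [Set.range_comp, ← Submodule.map_span, b.span_eq, Submodule.map_top, Submodule.range_subtype]

/-- A free direct summand as a point of a Grassmannian. -/
theorem exists_gr_of_basis {A M : Type u} [CommRing A] [AddCommGroup M] [Module A M] {m : ℕ} {ι₁ ι₂ : Type}
    [Fintype ι₁] [Fintype ι₂] (hm : Fintype.card ι₂ = m) (b : Module.Basis (ι₁ ⊕ ι₂) A M) :
    ∃ N : Grassmannian A M m, N.toSubmodule = Submodule.span A (Set.range fun i => b (Sum.inl i)) := by
  classical
  let φ : M →ₗ[A] (ι₂ → A) := b.constr A (Sum.elim (fun _ => 0) fun j => Pi.single j 1)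
  have hr : ∀ j, φ (b (Sum.inr j)) = Pi.single j 1 := fun j => b.constr_basis _ _ _
  have hl : ∀ i, φ (b (Sum.inl i)) = 0 := fun i => b.constr_basis _ _ _
  have hsur : Function.Surjective φ := by
    rw [← LinearMap.range_eq_top, eq_top_iff, ← (Pi.basisFun A ι₂).span_eq, Submodule.span_le]
    rintro _ ⟨j, rfl⟩
    exact ⟨b (Sum.inr j), by rw [hr, Pi.basisFun_apply]⟩
  have hker : LinearMap.ker φ = Submodule.span A (Set.range fun i => b (Sum.inl i)) := by
    refine le_antisymm (fun x hx => ?_) (Submodule.span_le.2 ?_)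
    · have key : ∀ z, z - ∑ j, φ z j • b (Sum.inr j) ∈ Submodule.span A (Set.range fun i => b (Sum.inl i)) := by
        intro z
        induction b.mem_span z using Submodule.span_induction with
        | mem z hz =>
          obtain ⟨i | j, rfl⟩ := hz
          · rw [hl]; simpa using Submodule.subset_span (s := Set.range fun i => b (Sum.inl i)) ⟨i, rfl⟩
          · rw [hr, Finset.sum_eq_single j (fun k _ hk => by rw [Pi.single_eq_of_ne hk, zero_smul])
              (fun h => absurd (Finset.mem_univ j) h), Pi.single_eq_same, one_smul, sub_self]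
            exact zero_mem _
        | zero => simp
        | add a c _ _ ha hc =>
          rw [map_add]
          simp only [Pi.add_apply, add_smul, Finset.sum_add_distrib]
          rw [add_sub_add_comm]
          exact add_mem ha hc
        | smul t a _ ha =>
          rw [map_smul]
          simp only [Pi.smul_apply, smul_eq_mul, mul_smul, ← Finset.smul_sum, ← smul_sub]
          exact Submodule.smul_mem _ _ ha
      have := key x
      rw [LinearMap.mem_ker.1 hx] at this
      simpa using this
    · rintro _ ⟨i, rfl⟩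
      exact hl i
  let e := φ.quotKerEquivOfSurjective hsur
  refine ⟨⟨LinearMap.ker φ, Module.Finite.equiv e.symm, Module.Projective.of_equiv e.symm, fun p => ?_⟩, hker⟩
  haveI : Nontrivial A := PrimeSpectrum.nontrivial p
  rw [Module.rankAtStalk_eq_of_equiv e, Module.rankAtStalk_eq_finrank_of_free]
  simp [hm]

variable {R : Type u} [CommRing R] {d r n : ℕ} {f g : Fin n → ((Fin d → R) →ₗ[R] (Fin d → R))} {s : R}
  (hI : ∀ i, (f i).comp (g i) = s • LinearMap.id ∧ (g i).comp (f i) = s • LinearMap.id)

include hI

section Transport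

variable {A : Type u} [CommRing A] [Algebra R A] (hs : IsUnit (algebraMap R A s))

include hs

theorem bijective_f (i : Fin n) : Function.Bijective ((f i).baseChange A) := by
  have h1 : ∀ x, (f i).baseChange A ((g i).baseChange A x) = algebraMap R A s • x := fun x => by
    rw [baseChange_comp_apply, (hI i).1, baseChange_smul_apply, LinearMap.baseChange_id]; rfl
  have h2 : ∀ x, (g i).baseChange A ((f i).baseChange A x) = algebraMap R A s • x := fun x => by
    rw [baseChange_comp_apply, (hI i).2, baseChange_smul_apply, LinearMap.baseChange_id]; rfl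
  obtain ⟨t, ht⟩ := hs
  refine ⟨fun x y h => ?_, fun y => ⟨(↑t⁻¹ : A) • (g i).baseChange A y, ?_⟩⟩
  · have := congrArg ((g i).baseChange A) h
    rw [h2, h2, ← ht] at this
    exact (IsUnit.smul_left_cancel t.isUnit).1 this
  · rw [map_smul, h1, smul_smul, ← ht, Units.inv_mul, one_smul]

theorem bijective_tr : ∀ k : ℕ, k ≤ n → Function.Bijective ((tr f g 0 k).baseChange A)
  | 0, _ => by rw [tr_self, LinearMap.baseChange_id]; exact Function.bijective_id
  | k + 1, hk => by
    have h := (bijective_f hI hs ⟨k, hk⟩).comp (bijective_tr k (Nat.le_of_succ_le hk))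
    rw [← f_comp_tr_of_le f g ⟨k, hk⟩ (Nat.zero_le _), LinearMap.baseChange_comp, LinearMap.coe_comp]
    exact h

/-- The linked tuple of the transports of a split free submodule. -/
theorem exists_tuple {κ : Type} [Fintype κ] (hκ : Fintype.card κ = d - r)
    (b : Module.Basis (Fin r ⊕ κ) A (A ⊗[R] (Fin d → R))) :
    ∃ W : LGPoints R d r n f g A, ∀ i, (W.1 i).toSubmodule =
      Submodule.span A (Set.range fun j => (tr f g 0 i).baseChange A (b (Sum.inl j))) := by
  choose W hW using fun i : Fin (n + 1) => exists_gr_of_basis hκ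
    (b.map (LinearEquiv.ofBijective _ (bijective_tr hI hs i (Nat.lt_succ_iff.1 i.2))))
  have hW' : ∀ i : Fin (n + 1), (W i).toSubmodule =
      Submodule.span A (Set.range fun j => (tr f g 0 i).baseChange A (b (Sum.inl j))) := fun i => hW i
  refine ⟨⟨W, fun i => ?_⟩, hW'⟩
  constructor <;> rw [hW', hW', Submodule.map_span, Submodule.span_le] <;> rintro _ ⟨_, ⟨j, rfl⟩, rfl⟩ <;>
    simp only [SetLike.mem_coe, baseChange_comp_apply, Fin.val_castSucc, Fin.val_succ]
  · rw [f_comp_tr_of_le f g i (Nat.zero_le _)]
    exact Submodule.subset_span ⟨j, rfl⟩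
  · rw [g_comp_tr_of_le (fun i => (hI i).2) i (Nat.zero_le _), baseChange_smul_apply]
    exact Submodule.smul_mem _ _ (Submodule.subset_span ⟨j, rfl⟩)

end Transport

variable {X : Over (Spec (CommRingCat.of R))} {e : ∀ A, (sp A ⟶ X) ≃ LGPoints R d r n f g A}

/-- There is a point where the scalar does not vanish. -/
theorem nonempty_of_ne_zero [IsDomain R] (he : IsNat X (functor r f g) e) (hr : r ≤ d) (hs : s ≠ 0) :
    Nonempty X.left := by
  let K := CommAlgCat.of R (FractionRing R)
  have hu : IsUnit (algebraMap R (FractionRing R) s) :=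
    isUnit_iff_ne_zero.2 fun h => hs (IsFractionRing.injective R (FractionRing R) (h.trans (map_zero _).symm))
  obtain ⟨W, -⟩ := exists_tuple (r := r) hI hu (κ := Fin (d - r)) (Fintype.card_fin _)
    ((bas (R := R) (FractionRing R)).reindex ((finCongr (show d = r + (d - r) by omega)).trans finSumFinEquiv.symm))
  exact ⟨((e K).symm W).left ⟨(⊥ : Ideal (FractionRing R)), Ideal.isPrime_bot⟩⟩

omit hI in
/-- The universal family of vectors. -/
noncomputable def univVec (j : Fin r) : MvPolynomial (Fin r × Fin d) R ⊗[R] (Fin d → R) :=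
  ∑ c, (MvPolynomial.X (j, c) : MvPolynomial (Fin r × Fin d) R) • bas _ c

/-- The universal vectors in an algebra over the parameters. -/
noncomputable def genVec {B : Type u} [CommRing B] [Algebra R B] (φ : MvPolynomial (Fin r × Fin d) R →ₐ[R] B)
    (i : Fin (n + 1)) (j : Fin r) : B ⊗[R] (Fin d → R) :=
  (tr f g 0 i).baseChange B (ι φ (univVec j))

omit hI in
theorem ι_univVec {B : Type u} [CommRing B] [Algebra R B] (φ : MvPolynomial (Fin r × Fin d) R →ₐ[R] B) (j : Fin r) :
    ι φ (univVec j) = ∑ c, φ (MvPolynomial.X (j, c)) • bas B c := by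
  simp only [univVec, map_sum, ι_smul, ι_bas]

/-- A family of vectors with nonzero scalar lifts to a localization of the parameters. -/
theorem exists_family [IsDomain R] (hr : r ≤ d) {L : Type u} [Field L] [Algebra R L]
    (V : Fin (n + 1) → Grassmannian L (L ⊗[R] (Fin d → R)) (d - r)) (hV : V ∈ LGPoints R d r n f g L)
    (hs : algebraMap R L s ≠ 0) :
    ∃ (A : Type u) (_ : CommRing A) (_ : Algebra R A)
      (toK : A →ₐ[R] FractionRing (MvPolynomial (Fin r × Fin d) R)) (evA : A →ₐ[R] L)
      (W : LGPoints R d r n f g A),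
      Function.Injective toK ∧ (∀ i, Grassmannian.map evA (W.1 i) = V i) ∧
        ∀ i, (Grassmannian.map toK (W.1 i)).toSubmodule = Submodule.span _ (Set.range
          (genVec (f := f) (g := g) (IsScalarTower.toAlgHom R (MvPolynomial (Fin r × Fin d) R) _) i)) := by
  classical
  let P := MvPolynomial (Fin r × Fin d) R
  let L₀ := FractionRing P
  haveI := finite_total (R := R) (d := d) (L := L)
  obtain ⟨S, hS, hch⟩ := exists_cols (V 0)
  obtain ⟨w, hwli, hwsp⟩ := exists_vectors (V 0).toSubmodule (finrank_member hr (V 0))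
  obtain ⟨σ⟩ : Nonempty (Fin d ≃ Fin r ⊕ {c // c ∈ S}) := ⟨(Fintype.equivFinOfCardEq (by
    rw [Fintype.card_sum, Fintype.card_fin, Fintype.card_coe, hS]; omega)).symm⟩
  have hspan : Submodule.span L (Set.range (Sum.elim w fun c : {c // c ∈ S} => bas (R := R) L c.1)) = ⊤ := by
    rw [eq_top_iff, ← (inChart_iff _ _).1 hch, Set.Sum.elim_range, Submodule.span_union, hwsp]
    refine sup_le_sup le_rfl (Submodule.span_mono ?_)
    rintro _ ⟨c, hc, rfl⟩
    exact ⟨⟨c, hc⟩, rfl⟩
  let vP : Fin r ⊕ {c // c ∈ S} → P ⊗[R] (Fin d → R) := Sum.elim univVec fun c => bas P c.1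
  let δ : P := (bas (R := R) P).det (vP ∘ σ)
  let ev : P →ₐ[R] L := MvPolynomial.aeval fun jc => (bas (R := R) L).repr (w jc.1) jc.2
  have hw : ∀ j, ι ev (univVec j) = w j := fun j => by
    rw [ι_univVec]
    refine Eq.trans (Finset.sum_congr rfl fun c _ => ?_) ((bas (R := R) L).sum_repr (w j))
    rw [show ev (MvPolynomial.X (j, c)) = (bas (R := R) L).repr (w j) c from MvPolynomial.aeval_X _ _]
  have hev : ι ev ∘ vP = Sum.elim w fun c : {c // c ∈ S} => bas (R := R) L c.1 := by
    funext x
    rcases x with j | c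
    · exact hw j
    · exact ι_bas ev c.1
  have hδ : ev δ ≠ 0 := by
    refine IsUnit.ne_zero ?_
    rw [← det_ι, ← span_eq_top_iff_isUnit_det]
    rw [show (fun k => ι ev ((vP ∘ σ) k)) = (Sum.elim w fun c : {c // c ∈ S} => bas (R := R) L c.1) ∘ σ from
      funext fun k => congrFun hev (σ k), σ.surjective.range_comp]
    exact hspan
  let den : P := algebraMap R P s * δ
  have hden : ev den ≠ 0 := by
    rw [map_mul, ev.commutes]
    exact mul_ne_zero hs hδ
  have hden0 : den ≠ 0 := fun h => hden (by rw [h, map_zero])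
  let A := Localization.Away den
  let toA : P →ₐ[R] A := IsScalarTower.toAlgHom R P A
  have hevu : ∀ y : Submonoid.powers den, IsUnit (ev y) := fun y => by
    obtain ⟨k, hk⟩ := y.2
    rw [← hk, map_pow]
    exact (isUnit_iff_ne_zero.2 hden).pow k
  let evA : A →ₐ[R] L := IsLocalization.liftAlgHom (M := Submonoid.powers den) (f := ev) hevu
  have hevA : evA.comp toA = ev := AlgHom.ext fun x => IsLocalization.lift_eq _ _
  let to₀ : P →ₐ[R] L₀ := IsScalarTower.toAlgHom R P L₀
  have h0u : ∀ y : Submonoid.powers den, IsUnit (to₀ y) := fun y => by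
    obtain ⟨k, hk⟩ := y.2
    rw [← hk, map_pow]
    exact (isUnit_iff_ne_zero.2 fun h => hden0 (IsFractionRing.injective P L₀ (h.trans (map_zero _).symm))).pow k
  let toK : A →ₐ[R] L₀ := IsLocalization.liftAlgHom (M := Submonoid.powers den) (f := to₀) h0u
  have htoK : toK.comp toA = to₀ := AlgHom.ext fun x => IsLocalization.lift_eq _ _
  have hinj : Function.Injective toK := by
    intro x y hxy
    refine (IsLocalization.lift_injective_iff (M := Submonoid.powers den) (g := to₀.toRingHom) h0u).2
      (fun a c => ?_) hxy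
    rw [(IsLocalization.injective A (powers_le_nonZeroDivisors_of_noZeroDivisors hden0)).eq_iff]
    exact (IsFractionRing.injective P L₀).eq_iff.symm
  have hdu : IsUnit (toA den) := IsLocalization.Away.algebraMap_isUnit den
  rw [map_mul, toA.commutes, IsUnit.mul_iff] at hdu
  let vA : Fin r ⊕ {c // c ∈ S} → A ⊗[R] (Fin d → R) := fun x => ι toA (vP x)
  have hdet : IsUnit ((bas (R := R) A).det (vA ∘ σ)) := by
    rw [show vA ∘ σ = fun k => ι toA ((vP ∘ σ) k) from rfl, det_ι]
    exact hdu.2
  obtain ⟨hli, hsp⟩ := (bas (R := R) A).is_basis_iff_det.2 hdet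
  let bA := (Module.Basis.mk hli hsp.ge).reindex σ
  have hbA : ∀ x, bA x = vA x := fun x => by simp [bA]
  obtain ⟨W, hW⟩ := exists_tuple (r := r) hI hdu.1 (κ := {c // c ∈ S}) (by rw [Fintype.card_coe, hS]) bA
  have hWu : ∀ i, (W.1 i).toSubmodule = Submodule.span A (Set.range (genVec (f := f) (g := g) toA i)) := fun i => by
    rw [hW]
    refine congrArg _ (congrArg Set.range (funext fun j => ?_))
    rw [hbA]
    rfl
  have hmapW : ∀ {B : Type u} [CommRing B] [Algebra R B] (φ : A →ₐ[R] B) (i : Fin (n + 1)),
      (Grassmannian.map φ (W.1 i)).toSubmodule =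
        Submodule.span B (Set.range (genVec (f := f) (g := g) (φ.comp toA) i)) := by
    intro B _ _ φ i
    rw [map_eq_span, hWu, span_ι_span, ← Set.range_comp]
    refine congrArg _ (congrArg Set.range (funext fun j => ?_))
    rw [Function.comp_apply, genVec, genVec, ι_baseChange, ι_ι]
  refine ⟨A, inferInstance, inferInstance, toK, evA, W, hinj, fun i => Grassmannian.ext ?_, fun i => ?_⟩
  · rw [hmapW, hevA]
    have hg : genVec (f := f) (g := g) ev i = fun j => (tr f g 0 i).baseChange L (w j) :=
      funext fun j => by rw [genVec, hw]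
    rw [hg]
    have hle : Submodule.span L (Set.range fun j => (tr f g 0 i).baseChange L (w j)) ≤ (V i).toSubmodule := by
      rw [Submodule.span_le]
      rintro _ ⟨j, rfl⟩
      exact map_tr_le (fun j => (V j).toSubmodule) hV 0 i (hwsp ▸ Submodule.subset_span ⟨j, rfl⟩)
    refine Submodule.eq_of_le_of_finrank_le hle ?_
    rw [finrank_member hr]
    refine le_of_eq (((Fintype.card_fin r).symm.trans (finrank_span_eq_card ?_).symm))
    exact hwli.map' _ (LinearMap.ker_eq_bot.2 (bijective_tr hI (isUnit_iff_ne_zero.2 hs) i (Nat.lt_succ_iff.1 i.2)).1)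
  · rw [hmapW, htoK]

/-- Every point with nonzero scalar is a specialization of the point of the universal family. -/
theorem exists_generic [IsDomain R] (he : IsNat X (functor r f g) e) (hr : r ≤ d)
    {L : CommAlgCat.{u} R} (hL : IsField L) (p : sp L ⟶ X) (hs : algebraMap R L s ≠ 0) :
    ∃ q : sp (CommAlgCat.of R (FractionRing (MvPolynomial (Fin r × Fin d) R))) ⟶ X,
      ctr (Field.toIsField _) q ⤳ ctr hL p ∧ ∀ i, ((e _ q).1 i).toSubmodule =
        Submodule.span _ (Set.range
          (genVec (f := f) (g := g) (IsScalarTower.toAlgHom R (MvPolynomial (Fin r × Fin d) R) _) i)) := by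
  letI := hL.toField
  obtain ⟨A, iA, aA, toK, evA, W, hinj, hev, hK⟩ := exists_family hI hr (e L p).1 (e L p).2 hs
  refine ⟨spOver (CommAlgCat.ofHom toK) ≫ (e (CommAlgCat.of R A)).symm W,
    specializes_step (A := CommAlgCat.of R A)
      (K := CommAlgCat.of R (FractionRing (MvPolynomial (Fin r × Fin d) R))) he hL (Field.toIsField _) p W
      (CommAlgCat.ofHom evA) (CommAlgCat.ofHom toK) hinj (Subtype.ext (funext hev)), fun i => ?_⟩
  exact (congrArg (fun N => N.toSubmodule) (congrFun (congrArg Subtype.val ((he _ _ (CommAlgCat.ofHom toK) _).trans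
    (congrArg ((functor r f g).map (CommAlgCat.ofHom toK)) ((e (CommAlgCat.of R A)).apply_symm_apply W)))) i)).trans
    (hK i)

omit hI in
theorem exists_dominant_point [IsDomain R] (he : IsNat X (functor r f g) e) (H : Hyp f g s) (hr : r ≤ d)
    {Z : Set X.left} (hZ : Z ∈ irreducibleComponents X.left) :
    ∃ y : X.left, Z = closure {y} ∧ (X.hom y).asIdeal = ⊥ := by
  obtain ⟨y, ⟨S, T, hd, z, rfl⟩, hZy⟩ := exists_exactChart_closure he H hr hZ
  have := isDomain_eRing (X := X) (e := e) H.comp hd ⟨_, z, rfl⟩
  let z₀ : (sp (eChart hd H.comp).C).left := (⟨(⊥ : Ideal (ERing f g hd)), Ideal.isPrime_bot⟩ : PrimeSpectrum (ERing f g hd))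
  have hsp : z₀ ⤳ z := (PrimeSpectrum.le_iff_specializes z₀ z).1 (show (⊥ : Ideal (ERing f g hd)) ≤ z.asIdeal from bot_le)
  refine ⟨((eChart hd H.comp).hom e).left z₀, ?_, ?_⟩
  · have h1 : Z ⊆ closure {((eChart hd H.comp).hom e).left z₀} := by
      rw [hZy]
      exact closure_minimal (Set.singleton_subset_iff.2 (specializes_iff_mem_closure.1
        (hsp.map ((eChart hd H.comp).hom e).left.continuous))) isClosed_closure
    exact Set.Subset.antisymm h1 (hZ.2 isIrreducible_singleton.closure h1)
  · rw [← Scheme.Hom.comp_apply, Over.w]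
    show Ideal.comap (algebraMap R (ERing f g hd)) ⊥ = ⊥
    rw [← RingHom.ker_eq_comap_bot, ← RingHom.injective_iff_ker_eq_bot,
      IsScalarTower.algebraMap_eq R (MvPolynomial (EVar S T) R) (ERing f g hd), RingHom.coe_comp]
    exact (IsLocalization.injective (ERing f g hd) (powers_le_nonZeroDivisors_of_noZeroDivisors
      (eDen_ne_zero (X := X) (e := e) H.comp hd ⟨_, z, rfl⟩))).comp (MvPolynomial.C_injective _ _)

omit hI in
theorem surjective_component [IsDomain R] (he : IsNat X (functor r f g) e) (H : Hyp f g s) (hr : r ≤ d)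
    {Z : Set X.left} (hZ : Z ∈ irreducibleComponents X.left) : X.hom.base '' Z = Set.univ := by
  haveI := universallyClosed he
  obtain ⟨y, hZy, hy⟩ := exists_dominant_point he H hr hZ
  have hcl : IsClosed (X.hom.base '' Z) :=
    X.hom.isClosedMap Z (isClosed_of_mem_irreducibleComponents Z hZ)
  refine Set.eq_univ_of_forall fun q => ?_
  have h1 : X.hom y ⤳ q := (PrimeSpectrum.le_iff_specializes (X.hom y) q).1
    (show (X.hom y).asIdeal ≤ q.asIdeal by rw [hy]; exact bot_le)
  exact h1.mem_closed hcl ⟨y, hZy ▸ subset_closure rfl, rfl⟩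

omit hI in
theorem irreducibleSpace [IsDomain R] (he : IsNat X (functor r f g) e) (H : Hyp f g s) (hr : r ≤ d)
    (hs : s ≠ 0) : IrreducibleSpace X.left := by
  haveI := nonempty_of_ne_zero H.comp he hr hs
  have key : ∀ y : X.left, (X.hom y).asIdeal = ⊥ →
      ∀ {L : CommAlgCat.{u} R} (hL : IsField L) (p : sp L ⟶ X), ctr hL p = y → algebraMap R L s ≠ 0 := by
    intro y hy L hL p hp h0
    letI := hL.toField
    have h1 : X.hom y = (sp L).hom (⟨(⊥ : Ideal L), Ideal.isPrime_bot⟩ : PrimeSpectrum L) := by
      rw [← hp, ← Over.w p, Scheme.Hom.comp_apply]; rfl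
    rw [h1] at hy
    have h2 : s ∈ Ideal.comap (algebraMap R L) ⊥ := h0
    rw [show Ideal.comap (algebraMap R L) ⊥ = (⊥ : Ideal R) from hy, Ideal.mem_bot] at h2
    exact hs h2
  suffices hone : (irreducibleComponents X.left).Subsingleton by
    obtain ⟨x⟩ := (inferInstance : Nonempty X.left)
    have hx := irreducibleComponent_mem_irreducibleComponents x
    have huniv : irreducibleComponent x = Set.univ := Set.eq_univ_of_forall fun z =>
      (hone (irreducibleComponent_mem_irreducibleComponents z) hx) ▸ mem_irreducibleComponent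
    haveI : PreirreducibleSpace X.left := ⟨(huniv ▸ isIrreducible_irreducibleComponent : IsIrreducible _).2⟩
    exact ⟨inferInstance⟩
  intro Z hZ Z' hZ'
  obtain ⟨y, hZy, hy⟩ := exists_dominant_point he H hr hZ
  obtain ⟨y', hZy', hy'⟩ := exists_dominant_point he H hr hZ'
  obtain ⟨L, hL, p, hp⟩ := exists_point y
  obtain ⟨L', hL', p', hp'⟩ := exists_point y'
  have hpy : ctr hL p = y := hp _
  have hpy' : ctr hL' p' = y' := hp' _
  obtain ⟨q, hq, hqv⟩ := exists_generic H.comp he hr hL p (key y hy hL p hpy)
  obtain ⟨q', hq', hqv'⟩ := exists_generic H.comp he hr hL' p' (key y' hy' hL' p' hpy')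
  have hqq : q = q' := (e _).injective (Subtype.ext (funext fun i => Grassmannian.ext ((hqv i).trans (hqv' i).symm)))
  rw [hpy] at hq
  rw [hpy', ← hqq] at hq'
  have h : ∀ {W : Set X.left} {w : X.left}, W ∈ irreducibleComponents X.left → W = closure {w} →
      ctr (Field.toIsField _) q ⤳ w → W = closure {ctr (Field.toIsField _) q} := by
    intro W w hW hWw hsp
    have h1 : W ⊆ closure {ctr (Field.toIsField _) q} := hWw ▸ closure_minimal
      (Set.singleton_subset_iff.2 (specializes_iff_mem_closure.1 hsp)) isClosed_closure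
    exact Set.Subset.antisymm h1 (hW.2 isIrreducible_singleton.closure h1)
  rw [h hZ hZy hq, h hZ' hZy' hq']

end Groth.Agent.LGGlobal
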