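import Groth.Agent.LGGlobal.ClosedLocus
import Groth.Agent.GrassRep.Rep
import Groth.Agent.GrPlucker.Embedding
import Groth.Agent.PnCoh.Chow.Proper
import Groth.Agent.Synt29.LGTransport
import Groth.Agent.Synt29.RepOpen
import Groth.Agent.GrpSchLib.WeilClosed

/-!
Representability and properness of the linked Grassmannian functor.
-/

set_option autoImplicit false
set_option linter.style.haveILetI false
set_option backward.isDefEq.respectTransparency false
set_option backward.isDefEq.respectTransparency.types false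

universe u

open TensorProduct CategoryTheory CategoryTheory.Limits AlgebraicGeometry W4c1limliniiii

namespace Groth.Agent.LGGlobal

open Synt29.LG Synt29.GrassGraph Synt29.RepOpen
open Module (Grassmannian)

variable {R : Type u} [CommRing R] {d : ℕ}

theorem isProper_grass (m : ℕ) (hm : m ≤ d) (G : GrPlucker.Rep R (Fin d → R) m) : IsProper G.X.hom := by
  obtain ⟨c, hc, hce⟩ := GrPlucker.exists_closedImmersion (Pi.basisFun R (Fin d)) G hm
  haveI : IsProper (CohB1.ProjSpaceOver.toBase (d.choose m - 1) (Spec (CommRingCat.of R))) := by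
    haveI : IsProper (CohB1.ProjSpace.toSpec (d.choose m - 1) (ULift.{u} ℤ)) := PnCoh.Chow.isProper_toSpec _ _
    exact MorphismProperty.pullback_snd (P := @IsProper) _ _ inferInstance
  rw [← hce]
  infer_instance

/-- Finite products of the Grassmannian. -/
theorem exists_prod (m : ℕ) (hm : m ≤ d) : ∀ k : ℕ,
    ∃ (P : Over (Spec (CommRingCat.of R)))
      (e : ∀ A : CommAlgCat.{u} R, (sp A ⟶ P) ≃ (Fin k → Grassmannian A ((A : Type u) ⊗[R] (Fin d → R)) m)),
      IsProper P.hom ∧ ∀ (A B : CommAlgCat.{u} R) (φ : A ⟶ B) (x : sp A ⟶ P) (i : Fin k),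
        e B (spOver φ ≫ x) i = Grassmannian.map φ.hom (e A x i)
  | 0 => by
    let P : Over (Spec (CommRingCat.of R)) := Over.mk (𝟙 _)
    haveI : ∀ A : CommAlgCat.{u} R, Subsingleton (sp A ⟶ P) := fun A => ⟨fun g g' => Over.OverMorphism.ext (by
      have h1 := Over.w g
      have h2 := Over.w g'
      simp only [P, Over.mk_hom, Category.comp_id] at h1 h2
      exact h1.trans h2.symm)⟩
    let e : ∀ A : CommAlgCat.{u} R, (sp A ⟶ P) ≃ (Fin 0 → Grassmannian A ((A : Type u) ⊗[R] (Fin d → R)) m) :=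
      fun A => { toFun := fun _ i => i.elim0
                 invFun := fun _ => Over.homMk (sp A).hom (Category.comp_id _)
                 left_inv := fun g => Subsingleton.elim _ _
                 right_inv := fun t => funext fun i => i.elim0 }
    refine ⟨P, e, ?_, fun A B φ x i => i.elim0⟩
    show IsProper (𝟙 _)
    infer_instance
  | k + 1 => by
    obtain ⟨P, e, hP, he⟩ := exists_prod m hm k
    obtain ⟨G, eG, heG⟩ := GrassRep.exists_grass R (Fin d → R) m
    haveI := hP
    haveI : IsProper G.hom := isProper_grass m hm ⟨G, eG, heG⟩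
    let Q : Over (Spec (CommRingCat.of R)) := Over.mk (pullback.fst G.hom P.hom ≫ G.hom)
    let p₁ : Q ⟶ G := Over.homMk (pullback.fst G.hom P.hom) rfl
    let p₂ : Q ⟶ P := Over.homMk (pullback.snd G.hom P.hom) pullback.condition.symm
    let e' : ∀ A : CommAlgCat.{u} R, (sp A ⟶ Q) ≃ (sp A ⟶ G) × (sp A ⟶ P) := fun A =>
      { toFun := fun x => (x ≫ p₁, x ≫ p₂)
        invFun := fun y => Over.homMk (pullback.lift y.1.left y.2.left ((Over.w y.1).trans (Over.w y.2).symm))
          (by
            show pullback.lift _ _ _ ≫ pullback.fst G.hom P.hom ≫ G.hom = _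
            rw [pullback.lift_fst_assoc]; exact Over.w y.1)
        left_inv := fun x => Over.OverMorphism.ext (by
          apply pullback.hom_ext <;> simp [p₁, p₂])
        right_inv := fun y => Prod.ext (Over.OverMorphism.ext (pullback.lift_fst _ _ _))
          (Over.OverMorphism.ext (pullback.lift_snd _ _ _)) }
    refine ⟨Q, fun A => ((e' A).trans (Equiv.prodCongr (eG A) (e A))).trans
      (Fin.consEquiv fun _ => Grassmannian A ((A : Type u) ⊗[R] (Fin d → R)) m), ?_, fun A B φ x i => ?_⟩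
    · show IsProper (pullback.fst G.hom P.hom ≫ G.hom)
      haveI : IsProper (pullback.fst G.hom P.hom) := MorphismProperty.pullback_fst (P := @IsProper) _ _ inferInstance
      infer_instance
    · refine Fin.cases ?_ (fun j => ?_) i
      · show eG B ((spOver φ ≫ x) ≫ p₁) = Grassmannian.map φ.hom (eG A (x ≫ p₁))
        rw [Category.assoc]
        exact heG A B φ (x ≫ p₁) _ rfl
      · show e B ((spOver φ ≫ x) ≫ p₂) j = Grassmannian.map φ.hom (e A (x ≫ p₂) j)
        rw [Category.assoc]
        exact he A B φ (x ≫ p₂) j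

theorem exists_linkIdeal {A : Type u} [CommRing A] [Algebra R A] {m : ℕ} (p : (Fin d → R) →ₗ[R] (Fin d → R))
    (N N' : Grassmannian A (A ⊗[R] (Fin d → R)) m) :
    ∃ I : Ideal A, ∀ (C : Type u) [CommRing C] [Algebra R C] (φ : A →ₐ[R] C),
      (Grassmannian.map φ N).toSubmodule.map (p.baseChange C) ≤ (Grassmannian.map φ N').toSubmodule ↔
        I ≤ RingHom.ker φ.toRingHom := by
  let J : Set ((A ⊗[R] (Fin d → R)) ⧸ N'.toSubmodule) :=
    (fun x => N'.toSubmodule.mkQ (p.baseChange A x)) '' N.toSubmodule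
  obtain ⟨I, hI⟩ := GrpSchLib.exists_contentIdeal_of_projective (A := A) J
  refine ⟨I, fun C _ _ φ => ?_⟩
  letI : Algebra A C := φ.toRingHom.toAlgebra
  haveI : IsScalarTower R A C := IsScalarTower.of_algebraMap_eq' φ.comp_algebraMap.symm
  refine Iff.trans ?_ (hI C)
  let cbc := AlgebraTensorModule.cancelBaseChange R A C C (Fin d → R)
  have hι : ∀ x, ι φ x = cbc (1 ⊗ₜ[A] x) := fun x => by
    induction x with
    | zero => simp
    | tmul a m => simp [cbc, ι_tmul, Algebra.smul_def]; rfl
    | add x y hx hy => rw [map_add, tmul_add, map_add, hx, hy]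
  have hmem : ∀ y, ι φ y ∈ (Grassmannian.map φ N').toSubmodule ↔ (1 : C) ⊗ₜ[A] N'.toSubmodule.mkQ y = 0 := by
    intro y
    rw [Grassmannian.map_toSubmodule]
    show (N'.toSubmodule.mkQ).baseChange C (cbc.symm (ι φ y)) = 0 ↔ _
    rw [hι, LinearEquiv.symm_apply_apply, LinearMap.baseChange_tmul]
  rw [map_eq_span φ N, Submodule.map_span, Submodule.span_le]
  constructor
  · rintro h _ ⟨x, hx, rfl⟩
    rw [← hmem, ι_baseChange]
    exact h ⟨_, ⟨x, hx, rfl⟩, rfl⟩
  · rintro h _ ⟨_, ⟨x, hx, rfl⟩, rfl⟩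
    rw [SetLike.mem_coe, ← ι_baseChange, hmem]
    exact h _ ⟨x, hx, rfl⟩

variable {r n : ℕ} (f g : Fin n → ((Fin d → R) →ₗ[R] (Fin d → R)))

theorem exists_representing : ∃ (X : Over (Spec (CommRingCat.of R)))
    (e : ∀ A : CommAlgCat.{u} R, (sp A ⟶ X) ≃ LGPoints R d r n f g A),
    (∀ (A B : CommAlgCat.{u} R) (φ : A ⟶ B) (x : sp A ⟶ X) (x' : sp B ⟶ X),
      x'.left = Spec.map (CommRingCat.ofHom φ.hom.toRingHom) ≫ x.left →
        ∀ i, (e B x').1 i = Grassmannian.map φ.hom ((e A x).1 i)) ∧ IsProper X.hom := by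
  classical
  obtain ⟨P, eP, hP, heP⟩ := exists_prod (R := R) (d := d) (d - r) (Nat.sub_le _ _) (n + 1)
  let Q : ∀ (A : Type u) [CommRing A], (Spec (CommRingCat.of A) ⟶ P.left) → Prop := fun A _ a =>
    ∀ (alg : Algebra R A) (w : a ≫ P.hom = Spec.map (CommRingCat.ofHom (@algebraMap R A _ _ alg))),
      eP (@CommAlgCat.of R _ A _ alg) (Over.homMk a w) ∈ LGPoints R d r n f g A
  have hQiff : ∀ (A : CommAlgCat.{u} R) (x : sp A ⟶ P), Q A x.left ↔ eP A x ∈ LGPoints R d r n f g A := by
    intro A x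
    refine ⟨fun h => h A.algebra (Over.w x), fun h alg w => ?_⟩
    obtain rfl : alg = A.algebra := Algebra.algebra_ext _ _ fun t => by
      exact RingHom.congr_fun (congrArg CommRingCat.Hom.hom (Spec.map_inj.1 (w.symm.trans (Over.w x)))) t
    exact h
  have hI : ∀ (A : Type u) [CommRing A] (a : Spec (CommRingCat.of A) ⟶ P.left), ∃ I : Ideal A, HasQ Q a I := by
    intro A _ a
    letI algA : Algebra R A := (Spec.preimage (a ≫ P.hom)).hom.toAlgebra
    have wA : a ≫ P.hom = Spec.map (CommRingCat.ofHom (algebraMap R A)) := (Spec.map_preimage _).symm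
    let x : sp (CommAlgCat.of R A) ⟶ P := Over.homMk a wA
    let V : Fin (n + 1) → Grassmannian A (A ⊗[R] (Fin d → R)) (d - r) := eP (CommAlgCat.of R A) x
    choose I hI using fun i => exists_linkIdeal (f i) (V i.castSucc) (V i.succ)
    choose J hJ using fun i => exists_linkIdeal (g i) (V i.succ) (V i.castSucc)
    refine ⟨(⨆ i, I i) ⊔ ⨆ i, J i, fun C _ φ => ?_⟩
    letI : Algebra R C := (φ.comp (algebraMap R A)).toAlgebra
    let φ' : A →ₐ[R] C := { φ with commutes' := fun _ => rfl }
    let x' : sp (CommAlgCat.of R C) ⟶ P := spOver (CommAlgCat.ofHom φ' : CommAlgCat.of R A ⟶ CommAlgCat.of R C) ≫ x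
    have hx' : x'.left = Spec.map (CommRingCat.ofHom φ) ≫ a := rfl
    have hV : eP (CommAlgCat.of R C) x' = fun i => Grassmannian.map φ' (V i) :=
      funext fun i => heP _ _ _ x i
    rw [← hx', hQiff (CommAlgCat.of R C) x', hV, sup_le_iff, iSup_le_iff, iSup_le_iff, ← forall_and]
    exact forall_congr' fun i => and_congr (hI i C φ') (hJ i C φ')
  obtain ⟨Z, i₀, hi₀, hZ⟩ := exists_closedLocus hI
  haveI := hi₀
  haveI := hP
  let X : Over (Spec (CommRingCat.of R)) := Over.mk (i₀ ≫ P.hom)
  let incl : X ⟶ P := Over.homMk i₀ rfl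
  let toPts : ∀ A : CommAlgCat.{u} R, (sp A ⟶ X) → LGPoints R d r n f g A := fun A x =>
    ⟨eP A (x ≫ incl), (hQiff A _).1 ((hZ A _).1 ⟨x.left, rfl⟩)⟩
  have hbij : ∀ A, Function.Bijective (toPts A) := by
    refine fun A => ⟨fun x y h => ?_, fun W => ?_⟩
    · have h1 := congrArg CommaMorphism.left ((eP A).injective (congrArg Subtype.val h))
      simp only [Over.comp_left, incl, Over.homMk_left] at h1
      exact Over.OverMorphism.ext ((cancel_mono i₀).1 h1)
    · obtain ⟨l, hl⟩ := (hZ A ((eP A).symm W.1).left).2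
        ((hQiff A _).2 (by rw [Equiv.apply_symm_apply]; exact W.2))
      let x : sp A ⟶ X := Over.homMk l (by
        show l ≫ i₀ ≫ P.hom = _
        rw [← Category.assoc, hl]; exact Over.w ((eP A).symm W.1))
      refine ⟨x, Subtype.ext ?_⟩
      show eP A (x ≫ incl) = W.1
      rw [show x ≫ incl = (eP A).symm W.1 from Over.OverMorphism.ext hl, Equiv.apply_symm_apply]
  refine ⟨X, fun A => Equiv.ofBijective (toPts A) (hbij A), fun A B φ x x' hx i => ?_, ?_⟩
  · show eP B (x' ≫ incl) i = Grassmannian.map φ.hom (eP A (x ≫ incl) i)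
    rw [show x' = spOver φ ≫ x from Over.OverMorphism.ext hx, Category.assoc]
    exact heP A B φ _ i
  · show IsProper (i₀ ≫ P.hom)
    infer_instance

end Groth.Agent.LGGlobal
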