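import Groth.Agent.Synt29.LGClosure

/-!
The valuative criterion for a scheme representing linked tuples.
-/

set_option autoImplicit false
set_option backward.isDefEq.respectTransparency false
set_option backward.isDefEq.respectTransparency.types false
set_option linter.style.haveILetI false

universe u

open TensorProduct CategoryTheory AlgebraicGeometry W4c1limliniiii

namespace Groth.Agent.LGGlobal

open Synt29.LG Synt29.GrassGraph Synt29.RepOpen
open Module (Grassmannian)

variable {R : Type u} [CommRing R] {d : ℕ}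

section Lattice

variable {O K : Type u} [CommRing O] [IsDomain O] [ValuationRing O] [Field K] [Algebra R O] [Algebra R K]
  [Algebra O K] [IsFractionRing O K] [IsScalarTower R O K]

/-- The trace on the lattice of a submodule over the fraction field. -/
def lattice (N : Submodule K (K ⊗[R] (Fin d → R))) : Submodule O (O ⊗[R] (Fin d → R)) where
  carrier := {x | ι (IsScalarTower.toAlgHom R O K) x ∈ N}
  zero_mem' := by simp
  add_mem' {x y} hx hy := by
    simp only [Set.mem_setOf_eq, map_add] at hx hy ⊢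
    exact N.add_mem hx hy
  smul_mem' c x hx := by
    simp only [Set.mem_setOf_eq, ι_smul] at hx ⊢
    exact N.smul_mem _ hx

theorem mem_lattice {N : Submodule K (K ⊗[R] (Fin d → R))} {x : O ⊗[R] (Fin d → R)} :
    x ∈ lattice (O := O) N ↔ ι (IsScalarTower.toAlgHom R O K) x ∈ N := Iff.rfl

theorem exists_multiple (v : K ⊗[R] (Fin d → R)) :
    ∃ (c : O) (x : O ⊗[R] (Fin d → R)), c ≠ 0 ∧ algebraMap O K c • v = ι (IsScalarTower.toAlgHom R O K) x := by
  classical
  obtain ⟨⟨c, hc⟩, h⟩ := IsLocalization.exist_integer_multiples (nonZeroDivisors O) Finset.univ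
    (fun i => (bas (R := R) K).repr v i)
  choose a ha using fun i => h i (Finset.mem_univ i)
  refine ⟨c, ∑ i, a i • bas O i, nonZeroDivisors.ne_zero hc, ?_⟩
  rw [map_sum]
  conv_lhs => rw [← (bas (R := R) K).sum_repr v, Finset.smul_sum]
  refine Finset.sum_congr rfl fun i _ => ?_
  rw [ι_smul, ι_bas, smul_smul]
  congr 1
  have := ha i
  rw [Algebra.smul_def] at this
  exact this.symm

theorem exists_extend {m : ℕ} (N : Grassmannian K (K ⊗[R] (Fin d → R)) m) :
    ∃ W : Grassmannian O (O ⊗[R] (Fin d → R)) m,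
      Grassmannian.map (IsScalarTower.toAlgHom R O K) W = N ∧ W.toSubmodule = lattice N.toSubmodule := by
  set W := lattice (O := O) N.toSubmodule with hW
  haveI : Module.Finite O (O ⊗[R] (Fin d → R)) := Module.Finite.of_basis (bas O)
  haveI : Module.IsTorsionFree O ((O ⊗[R] (Fin d → R)) ⧸ W) := by
    refine ⟨fun c hc q q' h => ?_⟩
    obtain ⟨x, rfl⟩ := Submodule.mkQ_surjective _ q
    obtain ⟨y, rfl⟩ := Submodule.mkQ_surjective _ q'
    simp only [Submodule.mkQ_apply, ← Submodule.Quotient.mk_smul, Submodule.Quotient.eq, ← smul_sub, hW,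
      mem_lattice] at h ⊢
    have hne : IsScalarTower.toAlgHom R O K c ≠ 0 :=
      fun h0 => hc.ne_zero ((injective_iff_map_eq_zero _).1 (IsFractionRing.injective O K) c h0)
    refine (Submodule.smul_mem_iff _ hne).1 ?_
    rw [← ι_smul, smul_sub]
    exact h
  haveI : Module.Flat O ((O ⊗[R] (Fin d → R)) ⧸ W) :=
    Module.Flat.flat_iff_torsion_eq_bot_of_isBezout.2 (Submodule.isTorsionFree_iff_torsion_eq_bot.1 inferInstance)
  haveI : Module.Free O ((O ⊗[R] (Fin d → R)) ⧸ W) := Module.free_of_flat_of_isLocalRing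
  obtain ⟨m', hm'⟩ : ∃ m', m' = Module.finrank O ((O ⊗[R] (Fin d → R)) ⧸ W) := ⟨_, rfl⟩
  let G : Grassmannian O (O ⊗[R] (Fin d → R)) m' :=
    { toSubmodule := W
      finite_quotient := inferInstance
      projective_quotient := Module.Projective.of_free
      rankAtStalk_eq := fun p => by
        rw [Module.rankAtStalk_eq_finrank_of_free, hm']
        rfl }
  have hmap : (Grassmannian.map (IsScalarTower.toAlgHom R O K) G).toSubmodule = N.toSubmodule := by
    rw [map_eq_span]
    refine le_antisymm (Submodule.span_le.2 ?_) fun v hv => ?_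
    · rintro _ ⟨x, hx, rfl⟩
      exact hx
    · obtain ⟨c, x, hc, hcx⟩ := exists_multiple (O := O) v
      have hne : algebraMap O K c ≠ 0 := fun h0 => hc ((injective_iff_map_eq_zero _).1 (IsFractionRing.injective O K) c h0)
      refine (Submodule.smul_mem_iff _ hne).1 ?_
      rw [hcx]
      refine Submodule.subset_span ⟨x, ?_, rfl⟩
      show ι _ x ∈ N.toSubmodule
      rw [← hcx]
      exact Submodule.smul_mem _ _ hv
  have hmm : m' = m := by
    have h1 := finrank_quot (Grassmannian.map (IsScalarTower.toAlgHom R O K) G)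
    rw [hmap, finrank_quot] at h1
    exact h1.symm
  subst hmm
  exact ⟨G, Grassmannian.ext hmap, rfl⟩

end Lattice

variable {r n : ℕ} {f g : Fin n → ((Fin d → R) →ₗ[R] (Fin d → R))}
  {X : Over (Spec (CommRingCat.of R))} {e : ∀ A, (sp A ⟶ X) ≃ LGPoints R d r n f g A}

theorem quasiCompact (he : IsNat X (functor r f g) e) : QuasiCompact X.hom := by
  classical
  rw [quasiCompact_iff_compactSpace]
  refine ⟨?_⟩
  let U : {S : Fin (n + 1) → Finset (Fin d) // ∀ i, (S i).card = d - r} → Set X.left := fun S =>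
    Set.range ((gChart (r := r) f g S.1 S.2).hom e).left
  have hU : (Set.univ : Set X.left) = ⋃ S, U S := by
    refine (Set.eq_univ_of_forall fun x => ?_).symm
    obtain ⟨S, hS, hx⟩ := exists_gChart_mem he x
    exact Set.mem_iUnion.2 ⟨⟨S, hS⟩, hx⟩
  rw [hU]
  refine isCompact_iUnion fun S => ?_
  haveI : CompactSpace (sp (gChart (r := r) f g S.1 S.2).C).left :=
    inferInstanceAs (CompactSpace (PrimeSpectrum _))
  exact isCompact_range ((gChart (r := r) f g S.1 S.2).hom e).left.continuous

theorem universallyClosed (he : IsNat X (functor r f g) e) : UniversallyClosed X.hom := by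
  haveI := quasiCompact he
  refine UniversallyClosed.of_valuativeCriterion X.hom ?_
  intro S
  obtain ⟨χ, hχ⟩ : ∃ χ, Spec.map χ = S.i₂ := ⟨Spec.preimage _, Spec.map_preimage _⟩
  letI : Algebra R S.R := χ.hom.toAlgebra
  letI : Algebra R S.K := ((algebraMap S.R S.K).comp χ.hom).toAlgebra
  haveI : IsScalarTower R S.R S.K := IsScalarTower.of_algebraMap_eq' rfl
  have hO : (sp (CommAlgCat.of R S.R)).hom = S.i₂ := hχ
  have hK : (sp (CommAlgCat.of R S.K)).hom = S.i₁ ≫ X.hom := by
    rw [S.commSq.w, ← hχ, ← Spec.map_comp]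
    rfl
  let p : sp (CommAlgCat.of R S.K) ⟶ X := Over.homMk S.i₁ hK.symm
  choose W hW hWl using fun i => exists_extend (O := S.R) ((e _ p).1 i)
  have hWm : W ∈ LGPoints R d r n f g S.R := by
    intro i
    constructor
    · rintro _ ⟨x, hx, rfl⟩
      rw [SetLike.mem_coe, hWl, mem_lattice] at hx
      rw [hWl, mem_lattice, ι_baseChange]
      exact ((e _ p).2 i).1 ⟨_, hx, rfl⟩
    · rintro _ ⟨x, hx, rfl⟩
      rw [SetLike.mem_coe, hWl, mem_lattice] at hx
      rw [hWl, mem_lattice, ι_baseChange]
      exact ((e _ p).2 i).2 ⟨_, hx, rfl⟩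
  let q : sp (CommAlgCat.of R S.R) ⟶ X := (e _).symm ⟨W, hWm⟩
  let toK : CommAlgCat.of R S.R ⟶ CommAlgCat.of R S.K := CommAlgCat.ofHom (IsScalarTower.toAlgHom R S.R S.K)
  have hq : spOver toK ≫ q = p := (e _).injective ((he _ _ toK q).trans
    ((congrArg ((functor r f g).map toK) ((e (CommAlgCat.of R S.R)).apply_symm_apply ⟨W, hWm⟩)).trans
      (Subtype.ext (funext hW))))
  refine CommSq.HasLift.mk' ⟨q.left, ?_, ?_⟩
  · have := congrArg CommaMorphism.left hq
    simp only [Over.comp_left, Over.homMk_left, p] at this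
    exact this
  · exact (Over.w q).trans hO

end Groth.Agent.LGGlobal
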